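import Mathlib.AlgebraicGeometry.ZariskisMainTheorem
import Mathlib.RingTheory.Spectrum.Prime.ConstructibleSet
import Mathlib.RingTheory.KrullDimension.Basic
import Mathlib.AlgebraicGeometry.Noetherian

/-! Quasi-finite separated morphisms with finite fibres over a base of dimension at most one are affine. -/

set_option autoImplicit false
set_option linter.style.haveILetI false
set_option backward.isDefEq.respectTransparency false

universe u

open CategoryTheory Limits AlgebraicGeometry TopologicalSpace Topology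

namespace Groth.Agent.QFAffine26

/-- A dense compact open of a spectrum contains a generization of every point. -/
theorem exists_generization_mem {B : Type u} [CommRing B] {U : Set (PrimeSpectrum B)} (hc : IsCompact U)
    (ho : IsOpen U) (hd : Dense U) (z : PrimeSpectrum B) : ∃ x ∈ U, x ⤳ z := by
  classical
  obtain ⟨t, ht⟩ := PrimeSpectrum.isCompact_isOpen_iff.1 ⟨hc, ho⟩
  let f : B →+* ∀ a : t, Localization.Away (a : B) := Pi.ringHom fun a => algebraMap B _
  have hU : U ⊆ Set.range (PrimeSpectrum.comap f) := by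
    intro x hx
    rw [← ht, Set.mem_compl_iff, PrimeSpectrum.mem_zeroLocus, Set.not_subset] at hx
    obtain ⟨a, ha, hax⟩ := hx
    obtain ⟨w, hw⟩ : x ∈ Set.range (PrimeSpectrum.comap (algebraMap B (Localization.Away a))) := by
      rw [PrimeSpectrum.localization_away_comap_range _ a]; exact hax
    refine ⟨PrimeSpectrum.comap (Pi.evalRingHom (fun a : t => Localization.Away (a : B)) ⟨a, ha⟩) w, ?_⟩
    rw [← hw, ← PrimeSpectrum.comap_comp_apply]
    rfl
  have hU' : Set.range (PrimeSpectrum.comap f) ⊆ U := by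
    rintro _ ⟨p, rfl⟩
    rw [← ht]
    intro hp
    have h1 : ∀ a : t, Pi.single a (1 : Localization.Away (a : B)) ∈ p.asIdeal := by
      intro a
      obtain ⟨v, hv⟩ := IsLocalization.Away.algebraMap_isUnit (S := Localization.Away (a : B)) (a : B)
      have e : (Pi.single a (1 : Localization.Away (a : B))) =
          f (a : B) * Pi.single a (↑v⁻¹ : Localization.Away (a : B)) := by
        ext b
        rcases eq_or_ne b a with rfl | hb
        · rw [Pi.mul_apply, Pi.single_eq_same, Pi.single_eq_same]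
          exact ((congrArg (· * _) hv.symm).trans v.mul_inv).symm
        · simp [Pi.single_eq_of_ne hb]
      rw [e]
      exact Ideal.mul_mem_right _ _ (hp a.2)
    have h2 := Ideal.sum_mem p.asIdeal (t := (Finset.univ : Finset t)) fun a _ => h1 a
    have h3 := Finset.univ_sum_single (1 : ∀ a : t, Localization.Away (a : B))
    simp only [Pi.one_apply] at h3
    rw [h3] at h2
    exact p.2.ne_top ((Ideal.eq_top_iff_one _).2 h2)
  have hdr : DenseRange (PrimeSpectrum.comap f) := hd.mono hU
  obtain ⟨q, hq, hqz⟩ := Ideal.exists_minimalPrimes_le (J := z.asIdeal) (bot_le : (⊥ : Ideal B) ≤ _)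
  exact ⟨⟨q, hq.1.1⟩, hU' ((PrimeSpectrum.denseRange_comap_iff_minimalPrimes f).1 hdr q hq),
    (PrimeSpectrum.le_iff_specializes _ _).1 hqz⟩

variable {R : Type u} [CommRing R] {B : Type u} [CommRing B]

/-- The basic open neighbourhood meeting the open `U` in a basic open. -/
theorem exists_basicOpen_inter [IsNoetherianRing R] [Ring.KrullDimLE 1 R] (φ : R →+* B)
    {U : Set (PrimeSpectrum B)} (hc : IsCompact U) (ho : IsOpen U) (hd : Dense U)
    (hfib : ∀ x z : PrimeSpectrum B, x ∈ U → x ⤳ z → PrimeSpectrum.comap φ x = PrimeSpectrum.comap φ z → z ∈ U)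
    (z : PrimeSpectrum B) :
    ∃ c d : B, c ∉ z.asIdeal ∧ (PrimeSpectrum.basicOpen c : Set (PrimeSpectrum B)) ∩ U =
      PrimeSpectrum.basicOpen d := by
  classical
  by_cases hzU : z ∈ U
  · obtain ⟨_, ⟨c, rfl⟩, hzc, hcU⟩ :=
      PrimeSpectrum.isTopologicalBasis_basic_opens.exists_subset_of_mem_open hzU ho
    exact ⟨c, c, hzc, Set.inter_eq_left.2 hcU⟩
  obtain ⟨x, hxU, hxz⟩ := exists_generization_mem hc ho hd z
  let s := PrimeSpectrum.comap φ z
  have hlt : (PrimeSpectrum.comap φ x).asIdeal < s.asIdeal := by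
    refine lt_of_le_of_ne (Ideal.comap_mono ((PrimeSpectrum.le_iff_specializes _ _).2 hxz)) fun e => ?_
    exact hzU (hfib x z hxU hxz (PrimeSpectrum.ext e))
  -- `f ∈ s` avoiding all minimal primes
  have hfin := minimalPrimes.finite_of_isNoetherianRing R
  obtain ⟨f, hfs, hfm⟩ : ∃ f ∈ s.asIdeal, ∀ q ∈ minimalPrimes R, f ∉ q := by
    by_contra! hcon
    have hsub : (s.asIdeal : Set R) ⊆ ⋃ q ∈ (hfin.toFinset : Set (Ideal R)), (q : Set R) := by
      intro r hr
      obtain ⟨q, hq, hrq⟩ := hcon r hr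
      exact Set.mem_biUnion (hfin.mem_toFinset.2 hq) hrq
    obtain ⟨q, hq, hsq⟩ := (Ideal.subset_union_prime (s := hfin.toFinset) ⊥ ⊥
      (fun i hi _ _ => (hfin.mem_toFinset.1 hi).1.1)).1 hsub
    have hq' := hfin.mem_toFinset.1 hq
    exact absurd (hlt.trans_le hsq) fun hlt' =>
      hlt'.not_ge (hq'.2 ⟨(PrimeSpectrum.comap φ x).2, bot_le⟩ hlt'.le)
  have hmax : ∀ q : Ideal R, q.IsPrime → f ∈ q → q.IsMaximal := by
    intro q hq hfq
    rcases Ring.krullDimLE_one_iff.1 inferInstance q hq with h | h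
    · exact absurd hfq (hfm q h)
    · exact h
  have hsame : ∀ a b : PrimeSpectrum B, a ⤳ b → φ f ∈ a.asIdeal →
      PrimeSpectrum.comap φ a = PrimeSpectrum.comap φ b := by
    intro a b hab ha
    have hle : (PrimeSpectrum.comap φ a).asIdeal ≤ (PrimeSpectrum.comap φ b).asIdeal :=
      Ideal.comap_mono ((PrimeSpectrum.le_iff_specializes _ _).2 hab)
    exact PrimeSpectrum.ext ((hmax _ (PrimeSpectrum.comap φ a).2 ha).eq_of_le
      (PrimeSpectrum.comap φ b).2.ne_top hle)
  -- `U` is clopen in `V(f)`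
  let Q := B ⧸ Ideal.span {φ f}
  let π : B →+* Q := Ideal.Quotient.mk _
  have hπ : ∀ p : PrimeSpectrum Q, φ f ∈ (PrimeSpectrum.comap π p).asIdeal := fun p => by
    show π (φ f) ∈ p.asIdeal
    rw [show π (φ f) = 0 from Ideal.Quotient.eq_zero_iff_mem.2 (Ideal.mem_span_singleton_self _)]
    exact zero_mem _
  have hUcon : IsConstructible U := by
    obtain ⟨t, ht⟩ := PrimeSpectrum.isCompact_isOpen_iff.1 ⟨hc, ho⟩
    rw [← ht]
    exact (PrimeSpectrum.isRetrocompact_zeroLocus_compl t.finite_toSet).isConstructible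
      (PrimeSpectrum.isClosed_zeroLocus _).isOpen_compl
  let U' := PrimeSpectrum.comap π ⁻¹' U
  have hU' : IsClopen U' := by
    refine ⟨PrimeSpectrum.isClosed_of_stableUnderSpecialization_of_isConstructible ?_ ?_,
      ho.preimage (PrimeSpectrum.continuous_comap π)⟩
    · intro a b hab ha
      refine hfib _ _ ha (hab.map (PrimeSpectrum.continuous_comap π)) ?_
      exact hsame _ _ (hab.map (PrimeSpectrum.continuous_comap π)) (hπ a)
    · obtain ⟨t, ht⟩ := PrimeSpectrum.isCompact_isOpen_iff.1 ⟨hc, ho⟩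
      show IsConstructible U'
      rw [show U' = (PrimeSpectrum.zeroLocus (π '' (t : Set B)))ᶜ by
        show PrimeSpectrum.comap π ⁻¹' U = _
        rw [← ht, Set.preimage_compl, PrimeSpectrum.preimage_comap_zeroLocus]]
      exact (PrimeSpectrum.isRetrocompact_zeroLocus_compl (t.finite_toSet.image π)).isConstructible
        (PrimeSpectrum.isClosed_zeroLocus _).isOpen_compl
  obtain ⟨e, he, heU⟩ := PrimeSpectrum.isClopen_iff.1 hU'
  obtain ⟨g, hg⟩ := Ideal.Quotient.mk_surjective e
  have hgg : g * (1 - g) ∈ Ideal.span {φ f} := by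
    rw [← Ideal.Quotient.eq_zero_iff_mem, map_mul, map_sub, map_one, hg, mul_sub, mul_one, he.eq, sub_self]
  have hUg : ∀ p : PrimeSpectrum B, φ f ∈ p.asIdeal → (p ∈ U ↔ g ∉ p.asIdeal) := by
    intro p hp
    obtain ⟨p', rfl⟩ : p ∈ Set.range (PrimeSpectrum.comap π) := by
      rw [range_comap_of_surjective _ _ Ideal.Quotient.mk_surjective, PrimeSpectrum.mem_zeroLocus,
        Ideal.mk_ker]
      exact SetLike.coe_subset_coe.2 ((Ideal.span_singleton_le_iff_mem _).2 hp)
    show p' ∈ U' ↔ π g ∉ p'.asIdeal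
    rw [heU, show π g = e from hg]
    rfl
  -- points off `U` and off `V(f)` stay away from `z`
  have hZ : IsClosed (Uᶜ ∩ (PrimeSpectrum.basicOpen (φ f) : Set (PrimeSpectrum B))) := by
    refine PrimeSpectrum.isClosed_of_stableUnderSpecialization_of_isConstructible ?_
      (hUcon.compl.inter PrimeSpectrum.isConstructible_basicOpen)
    rintro a b hab ⟨haU, haf⟩
    refine ⟨fun hb => haU (hab.mem_open ho hb), fun hbf => ?_⟩
    obtain ⟨y, hyU, hya⟩ := exists_generization_mem hc ho hd a
    have hlt' : (PrimeSpectrum.comap φ y).asIdeal < (PrimeSpectrum.comap φ a).asIdeal := by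
      refine lt_of_le_of_ne (Ideal.comap_mono ((PrimeSpectrum.le_iff_specializes _ _).2 hya)) fun e' => ?_
      exact haU (hfib y a hyU hya (PrimeSpectrum.ext e'))
    rcases Ring.krullDimLE_one_iff.1 inferInstance (PrimeSpectrum.comap φ a).asIdeal
        (PrimeSpectrum.comap φ a).2 with h | h
    · exact hlt'.not_ge (h.2 ⟨(PrimeSpectrum.comap φ y).2, bot_le⟩ hlt'.le)
    · have hab' : (PrimeSpectrum.comap φ a).asIdeal ≤ (PrimeSpectrum.comap φ b).asIdeal :=
        Ideal.comap_mono ((PrimeSpectrum.le_iff_specializes _ _).2 hab)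
      refine haf ?_
      show f ∈ (PrimeSpectrum.comap φ a).asIdeal
      rw [h.eq_of_le (PrimeSpectrum.comap φ b).2.ne_top hab']
      exact hbf
  obtain ⟨_, ⟨c, rfl⟩, hzc, hcd⟩ := PrimeSpectrum.isTopologicalBasis_basic_opens.exists_subset_of_mem_open
    (a := z) (u := (Uᶜ ∩ (PrimeSpectrum.basicOpen (φ f) : Set (PrimeSpectrum B)))ᶜ) (fun h => h.2 hfs) hZ.isOpen_compl
  have hzg : g ∈ z.asIdeal := by
    by_contra hc'
    exact hzU ((hUg z hfs).2 hc')
  have hzg' : 1 - g ∉ z.asIdeal := fun h => z.2.ne_top ((Ideal.eq_top_iff_one _).2 (by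
    have := z.asIdeal.add_mem h hzg; rwa [sub_add_cancel] at this))
  refine ⟨c * (1 - g), c * (1 - g) * φ f, fun h => (z.2.mem_or_mem h).elim hzc hzg', ?_⟩
  ext p
  rw [Set.mem_inter_iff, SetLike.mem_coe, SetLike.mem_coe, PrimeSpectrum.mem_basicOpen,
    PrimeSpectrum.mem_basicOpen]
  constructor
  · rintro ⟨hp, hpU⟩ h
    refine (p.2.mem_or_mem h).elim hp fun hpf => ?_
    have h1 : 1 - g ∉ p.asIdeal := fun h' => hp (Ideal.mul_mem_left _ _ h')
    have hle : Ideal.span {φ f} ≤ p.asIdeal := (Ideal.span_singleton_le_iff_mem _).2 hpf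
    exact (p.2.mem_or_mem (hle hgg)).elim ((hUg p hpf).1 hpU) h1
  · intro h
    have hp : c * (1 - g) ∉ p.asIdeal := fun h' => h (Ideal.mul_mem_right _ _ h')
    refine ⟨hp, ?_⟩
    by_contra hpU
    exact hcd (fun h' => hp (Ideal.mul_mem_right _ _ h')) ⟨hpU, fun h' => h (Ideal.mul_mem_left _ _ h')⟩

/-- The inclusion of such an open in an affine scheme is an affine morphism. -/
theorem isAffineHom_openImmersion {X N : Scheme.{u}} [IsAffine N] (j : X ⟶ N) [IsOpenImmersion j]
    [QuasiCompact j] [IsDominant j] [IsNoetherianRing R] [Ring.KrullDimLE 1 R]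
    (ρ : N ⟶ Spec (CommRingCat.of R))
    (hfib : ∀ (x : X) (z : N), j x ⤳ z → ρ (j x) = ρ z → z ∈ Set.range j) :
    IsAffineHom j := by
  haveI : IsAffineHom (j ≫ N.isoSpec.hom) := by
    let j' := j ≫ N.isoSpec.hom
    let φ : R →+* Γ(N, ⊤) := (Spec.preimage (N.isoSpec.inv ≫ ρ)).hom
    have hφ : ∀ w : Spec Γ(N, ⊤), ρ (N.isoSpec.inv w) = PrimeSpectrum.comap φ w := by
      intro w
      rw [← Scheme.Hom.comp_apply, ← Spec.map_preimage (N.isoSpec.inv ≫ ρ)]
      rfl
    have hj : ∀ x, N.isoSpec.inv (j' x) = j x := fun x => by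
      rw [← Scheme.Hom.comp_apply, Category.assoc, Iso.hom_inv_id, Category.comp_id]
    refine isAffineHom_of_forall_exists_isAffineOpen j' fun z => ?_
    have hU1 : IsCompact (Set.range j') := by
      rw [← Set.image_univ]
      haveI : CompactSpace X := QuasiCompact.compactSpace_of_compactSpace j
      exact isCompact_univ.image j'.continuous
    obtain ⟨c, d, hc, hcd⟩ := exists_basicOpen_inter φ hU1 j'.isOpenEmbedding.isOpen_range
      (Scheme.Hom.denseRange j') (by
        rintro _ b ⟨x, rfl⟩ hxb he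
        obtain ⟨y, hy⟩ := hfib x (N.isoSpec.inv b) (by rw [← hj x]; exact hxb.map N.isoSpec.inv.continuous)
          (by rw [← hj x, hφ, hφ]; exact he)
        refine ⟨y, ?_⟩
        show N.isoSpec.hom (j y) = b
        rw [hy, ← Scheme.Hom.comp_apply, Iso.inv_hom_id]
        rfl) z
    refine ⟨PrimeSpectrum.basicOpen c, hc, IsAffineOpen.Spec_basicOpen c, ?_⟩
    have e : j' ⁻¹ᵁ (PrimeSpectrum.basicOpen c) = j' ⁻¹ᵁ (PrimeSpectrum.basicOpen d) := by
      ext x
      have := Set.ext_iff.1 hcd (j' x)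
      constructor
      · exact fun h => this.1 ⟨h, x, rfl⟩
      · exact fun h => (this.2 h).1
    rw [e]
    refine (IsAffineOpen.Spec_basicOpen d).preimage_of_isOpenImmersion j' fun w hw => ?_
    exact ((Set.ext_iff.1 hcd w).2 hw).2
  have : IsAffineHom ((j ≫ N.isoSpec.hom) ≫ N.isoSpec.inv) := inferInstance
  rwa [Category.assoc, Iso.hom_inv_id, Category.comp_id] at this

/-- The local statement: affine source of the target. -/
theorem isAffine_source {X Y : Scheme.{u}} [IsAffine Y] [IsNoetherianRing R] [Ring.KrullDimLE 1 R]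
    (v : X ⟶ Y) [LocallyOfFiniteType v] [QuasiCompact v] [IsSeparated v] [LocallyQuasiFinite v]
    (q : Y ⟶ Spec (CommRingCat.of R))
    (hfin : ∀ s, IsFinite (pullback.snd v
      (pullback.fst q ((Spec (CommRingCat.of R)).fromSpecResidueField s)))) :
    IsAffine X := by
  let j := v.toNormalization
  let n := v.fromNormalization
  haveI : IsAffine v.normalization := isAffine_of_isAffineHom n
  haveI : IsAffineHom j := by
    refine isAffineHom_openImmersion j (n ≫ q) fun x z hxz he => ?_
    let g := (Spec (CommRingCat.of R)).fromSpecResidueField ((n ≫ q) z)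
    let p : pullback q g ⟶ Y := pullback.fst q g
    let j₁ : pullback v p ⟶ pullback n p :=
      pullback.map v p n p j (𝟙 _) (𝟙 _) (by simp [j, n]) (by simp)
    haveI : IsFinite (pullback.snd v p) := hfin _
    haveI : IsFinite (j₁ ≫ pullback.snd n p) := by
      rw [pullback.lift_snd, Category.comp_id]
      infer_instance
    haveI : IsFinite j₁ := IsFinite.of_comp j₁ (pullback.snd n p)
    have hpt : ∀ w : v.normalization, (n ≫ q) w = (n ≫ q) z → ∃ t : ↥(pullback q g), p t = n w := by
      intro w hw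
      obtain ⟨t, ht, -⟩ := Scheme.Pullback.exists_preimage_pullback (n w) (default : Spec ((Spec (CommRingCat.of R)).residueField ((n ≫ q) z)))
        (f := q) (g := g) (by rw [Scheme.fromSpecResidueField_apply, ← hw]; rfl)
      exact ⟨t, ht⟩
    obtain ⟨tx, htx⟩ := hpt (j x) he
    obtain ⟨a, hax, -⟩ := Scheme.Pullback.exists_preimage_pullback (f := v) (g := p) x tx
      (by rw [htx, ← Scheme.Hom.comp_apply, Scheme.Hom.toNormalization_fromNormalization])
    have hja : pullback.fst n p (j₁ a) = j x := by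
      rw [← Scheme.Hom.comp_apply, pullback.lift_fst, Scheme.Hom.comp_apply, hax]
    obtain ⟨tz, htz⟩ := hpt z rfl
    obtain ⟨b, hbz, -⟩ := Scheme.Pullback.exists_preimage_pullback (f := n) (g := p) z tz htz.symm
    haveI : IsPreimmersion p := MorphismProperty.pullback_fst _ _ inferInstance
    haveI : IsPreimmersion (pullback.fst n p) := MorphismProperty.pullback_fst _ _ inferInstance
    have hab : j₁ a ⤳ b := by
      rw [← (pullback.fst n p).isEmbedding.isInducing.specializes_iff, hja, hbz]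
      exact hxz
    obtain ⟨a', ha'⟩ := hab.mem_closed j₁.isClosedMap.isClosed_range ⟨a, rfl⟩
    refine ⟨pullback.fst v p a', ?_⟩
    have he' : pullback.fst n p (j₁ a') = j (pullback.fst v p a') := by
      rw [← Scheme.Hom.comp_apply, pullback.lift_fst, Scheme.Hom.comp_apply]
    exact he'.symm.trans ((congrArg _ ha').trans hbz)
  exact isAffine_of_isAffineHom j

/-- The global statement. -/
theorem isAffineHom_of_finite_fibres {S X Y : Scheme.{u}} [IsLocallyNoetherian S]
    (hdim : topologicalKrullDim S ≤ 1) (v : X ⟶ Y) [LocallyOfFiniteType v] [QuasiCompact v] [IsSeparated v]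
    [LocallyQuasiFinite v] (q : Y ⟶ S)
    (hfin : ∀ s : S, IsFinite (pullback.snd v (pullback.fst q (S.fromSpecResidueField s)))) :
    IsAffineHom v := by
  refine isAffineHom_of_forall_exists_isAffineOpen v fun y => ?_
  obtain ⟨W, hW, hyW, -⟩ := exists_isAffineOpen_mem_and_subset (x := q y) (U := ⊤) trivial
  obtain ⟨V, hV, hyV, hVW⟩ := exists_isAffineOpen_mem_and_subset (x := y) (U := q ⁻¹ᵁ W) hyW
  refine ⟨V, hyV, hV, ?_⟩
  haveI : IsAffine V.toScheme := hV
  haveI : IsNoetherianRing Γ(S, W) := IsLocallyNoetherian.component_noetherian ⟨W, hW⟩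
  haveI : Ring.KrullDimLE 1 Γ(S, W) := by
    rw [Ring.krullDimLE_iff, ← PrimeSpectrum.topologicalKrullDim_eq_ringKrullDim]
    exact (hW.fromSpec.isOpenEmbedding.isInducing.topologicalKrullDim_le).trans (by exact_mod_cast hdim)
  let q' : V.toScheme ⟶ Spec Γ(S, W) :=
    IsOpenImmersion.lift hW.fromSpec (V.ι ≫ q) (by
      rintro _ ⟨w, rfl⟩
      rw [hW.range_fromSpec]
      exact hVW w.2)
  have hq' : q' ≫ hW.fromSpec = V.ι ≫ q := IsOpenImmersion.lift_fac _ _ _
  refine isAffine_source (R := Γ(S, W)) (v ∣_ V) q' fun s => ?_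
  let g := (Spec Γ(S, W)).fromSpecResidueField s
  let r := pullback.fst q' g
  have hres := Scheme.Hom.residueFieldMap_congr (f := hW.fromSpec) rfl s
  let g₀ := S.fromSpecResidueField (hW.fromSpec s)
  have hg : g ≫ hW.fromSpec = Spec.map (hW.fromSpec.residueFieldMap s) ≫ g₀ :=
    (Scheme.Hom.SpecMap_residueFieldMap_fromSpecResidueField _ _).symm
  let m : pullback q' g ⟶ pullback q g₀ := pullback.lift (r ≫ V.ι) (pullback.snd q' g ≫ Spec.map (hW.fromSpec.residueFieldMap s))
    (by rw [Category.assoc, Category.assoc, ← hq', ← hg, ← Category.assoc, pullback.condition, Category.assoc])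
  have hm : m ≫ pullback.fst q g₀ = r ≫ V.ι := pullback.lift_fst _ _ _
  haveI := hfin (hW.fromSpec s)
  have h1 : IsFinite (pullback.snd v (m ≫ pullback.fst q g₀)) := by
    rw [← pullbackLeftPullbackSndIso_inv_snd_snd]
    infer_instance
  rw [hm] at h1
  have hP : IsPullback (pullback.fst (v ∣_ V) r ≫ (v ⁻¹ᵁ V).ι) (pullback.snd (v ∣_ V) r) v (r ≫ V.ι) :=
    (IsPullback.of_hasPullback (v ∣_ V) r).paste_horiz (isPullback_morphismRestrict v V).flip
  show IsFinite (pullback.snd (v ∣_ V) r)
  rw [← hP.isoPullback_hom_snd]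
  haveI := h1
  infer_instance

end Groth.Agent.QFAffine26
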